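import Cfsg.Agent.Lib.CosetEnum.M22x4928.Data
import Cfsg.Agent.Lib.CosetEnum.M22x4032.Enum
import Cfsg.Agent.Lib.ExactCover.Ker

/-! All relators act trivially on the table. -/

set_option autoImplicit false
set_option maxRecDepth 20000
set_option Elab.async false

namespace Cfsg.Agent.Lib.CosetEnum.M22x4928

open Cfsg.Agent.Lib.CosetEnum

theorem perm_ok : permOK M22x4032.letters.K M22x4032.letters.IV 4928 table = true := by decide +kernel

theorem rels_part0 : allFrom 0 600 (relAt M22x4032.letters.K table M22x4032.letters.RL) = true := by decide +kernel

theorem rels_part1 : allFrom 600 600 (relAt M22x4032.letters.K table M22x4032.letters.RL) = true := by decide +kernel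

theorem rels_part2 : allFrom 1200 600 (relAt M22x4032.letters.K table M22x4032.letters.RL) = true := by decide +kernel

theorem rels_part3 : allFrom 1800 600 (relAt M22x4032.letters.K table M22x4032.letters.RL) = true := by decide +kernel

theorem rels_part4 : allFrom 2400 600 (relAt M22x4032.letters.K table M22x4032.letters.RL) = true := by decide +kernel

theorem rels_part5 : allFrom 3000 600 (relAt M22x4032.letters.K table M22x4032.letters.RL) = true := by decide +kernel

theorem rels_part6 : allFrom 3600 600 (relAt M22x4032.letters.K table M22x4032.letters.RL) = true := by decide +kernel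

theorem rels_part7 : allFrom 4200 600 (relAt M22x4032.letters.K table M22x4032.letters.RL) = true := by decide +kernel

theorem rels_part8 : allFrom 4800 128 (relAt M22x4032.letters.K table M22x4032.letters.RL) = true := by decide +kernel

theorem rels_ok : relsOK M22x4032.letters.K 4928 table M22x4032.letters.RL = true :=
  (allBelow_add (allBelow_add (allBelow_add (allBelow_add (allBelow_add (allBelow_add (allBelow_add (allBelow_add (allBelow_add (rfl : allBelow 0 (relAt M22x4032.letters.K table M22x4032.letters.RL) = true) rels_part0
    (by omega : 0 + 600 = 600)) rels_part1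
    (by omega : 600 + 600 = 1200)) rels_part2
    (by omega : 1200 + 600 = 1800)) rels_part3
    (by omega : 1800 + 600 = 2400)) rels_part4
    (by omega : 2400 + 600 = 3000)) rels_part5
    (by omega : 3000 + 600 = 3600)) rels_part6
    (by omega : 3600 + 600 = 4200)) rels_part7
    (by omega : 4200 + 600 = 4800)) rels_part8
    (by omega : 4800 + 128 = 4928))

theorem table_ok : TableOK M22x4032.letters 4928 table where
  col := M22x4032.table_ok.col
  symcol := M22x4032.table_ok.symcol
  invol := M22x4032.table_ok.invol
  perm := perm_ok
  rel l hl i hi := relsOK_rel rels_ok hi hl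

/-- The action on the table. -/
theorem act : Nonempty (Cfsg.Agent.Lib.ExactCover.Act 3 M22x4032.relWords 4928 table) :=
  Cfsg.Agent.Lib.ExactCover.exists_act (by omega) M22x4032.letters_ok table_ok

end Cfsg.Agent.Lib.CosetEnum.M22x4928
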